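import Mathlib.Algebra.Category.Ring.Constructions
import Mathlib.RingTheory.TensorProduct.IsBaseChangeFree
import Mathlib.LinearAlgebra.FreeModule.Basic
import Mathlib.RingTheory.Ideal.Span

/-!
# The ideal of coefficients of an ideal in a free algebra
-/

universe u

open CategoryTheory CategoryTheory.Limits

namespace GrothLib.FixClosed

/-- For a pushout square `P = B ⊗_R A` with `B` free over `R`, the images of a basis of `B` form a
basis of `P` over `A`. -/
theorem exists_basis_of_isPushout {R B A P : CommRingCat.{u}} {φ : R ⟶ B} {α : R ⟶ A} {β : B ⟶ P}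
    {γ : A ⟶ P} (h : IsPushout φ α β γ) {ι : Type u}
    (b : letI := φ.hom.toAlgebra; Module.Basis ι R B) :
    letI := γ.hom.toAlgebra
    ∃ c : Module.Basis ι A P, ∀ i, c i = β (b i) := by
  letI := φ.hom.toAlgebra
  letI := α.hom.toAlgebra
  letI := β.hom.toAlgebra
  letI := γ.hom.toAlgebra
  letI := (φ ≫ β).hom.toAlgebra
  haveI : IsScalarTower R B P := .of_algebraMap_eq fun _ => rfl
  haveI : IsScalarTower R A P := .of_algebraMap_eq fun r => congr($(h.w) r)
  have hp : Algebra.IsPushout R B A P := CommRingCat.isPushout_iff_isPushout.1 h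
  have hbc : IsBaseChange A (IsScalarTower.toAlgHom R B P).toLinearMap := hp.symm.out
  exact ⟨hbc.basis b, fun i => hbc.basis_apply b i⟩

/-- An ideal of a free base change is killed by a change of the base ring exactly when its
coefficients are. -/
theorem exists_coeffIdeal {R B A P : CommRingCat.{u}} {φ : R ⟶ B} {α : R ⟶ A} {β : B ⟶ P}
    {γ : A ⟶ P} (h : IsPushout φ α β γ) (hfree : letI := φ.hom.toAlgebra; Module.Free R B)
    (I : Ideal P) :
    ∃ J : Ideal A, ∀ {C Q : CommRingCat.{u}} (α' : R ⟶ C) (β' : B ⟶ Q) (γ' : C ⟶ Q)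
      (_ : IsPushout φ α' β' γ') (χ : A ⟶ C) (Ψ : P ⟶ Q), β ≫ Ψ = β' → γ ≫ Ψ = χ ≫ γ' →
      (I ≤ RingHom.ker Ψ.hom ↔ J ≤ RingHom.ker χ.hom) := by
  letI := φ.hom.toAlgebra
  letI := γ.hom.toAlgebra
  haveI := hfree
  let b := Module.Free.chooseBasis R B
  obtain ⟨c, hc⟩ := exists_basis_of_isPushout h b
  refine ⟨Ideal.span {a | ∃ x ∈ I, ∃ i, c.repr x i = a}, fun {C Q} α' β' γ' h' χ Ψ hβ hγ => ?_⟩
  letI := γ'.hom.toAlgebra
  obtain ⟨c', hc'⟩ := exists_basis_of_isPushout h' b
  have hΨ : ∀ x : P, Ψ x = Finsupp.linearCombination C c'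
      (Finsupp.mapRange χ.hom (map_zero _) (c.repr x)) := by
    intro x
    conv_lhs => rw [← c.linearCombination_repr x]
    rw [Finsupp.linearCombination_apply, Finsupp.linearCombination_apply, map_finsuppSum,
      Finsupp.sum_mapRange_index (h := fun i a => a • c' i) (fun i => zero_smul C (c' i))]
    refine Finsupp.sum_congr fun i _ => ?_
    rw [Algebra.smul_def, Algebra.smul_def, map_mul, hc, hc']
    have e1 : Ψ (β (b i)) = β' (b i) := congr($(hβ) (b i))
    have e2 : Ψ (γ (c.repr x i)) = γ' (χ (c.repr x i)) := congr($(hγ) (c.repr x i))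
    exact congrArg₂ (· * ·) e2 e1
  constructor
  · intro hI
    rw [Ideal.span_le]
    rintro _ ⟨x, hx, i, rfl⟩
    have h0 : Finsupp.linearCombination C c' (Finsupp.mapRange χ.hom (map_zero _) (c.repr x)) = 0 := by
      rw [← hΨ]
      exact hI hx
    have := linearIndependent_iff.1 c'.linearIndependent _ h0
    simpa using congrArg (fun f => f i) this
  · intro hJ x hx
    rw [RingHom.mem_ker]
    refine (hΨ x).trans ?_
    have h0 : Finsupp.mapRange χ.hom (map_zero _) (c.repr x) = 0 :=
      Finsupp.ext fun i => hJ (Ideal.subset_span ⟨x, hx, i, rfl⟩)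
    rw [h0, map_zero]

end GrothLib.FixClosed
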