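import Groth.Agent.Lib.FixClosed.Algebra
import Mathlib.AlgebraicGeometry.Morphisms.Separated
import Mathlib.AlgebraicGeometry.Morphisms.Flat
import Mathlib.AlgebraicGeometry.IdealSheaf.Subscheme
import Mathlib.RingTheory.Localization.Away.Basic

/-!
# The locus where two morphisms agree on a locally free affine family is closed

For `f : G ⟶ S` affine with locally free algebra and `q₁ q₂ : G ×_S Y ⟶ Z`, `Z` separated over `S`,
the morphisms `t : T ⟶ Y` such that `q₁`, `q₂` agree on `G ×_S T` are those factoring through a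
closed subscheme of `Y`.
-/

universe u

open CategoryTheory CategoryTheory.Limits AlgebraicGeometry Opposite

namespace GrothLib.FixClosed

variable {S G Y Z : Scheme.{u}} (f : G ⟶ S) (g : Y ⟶ S) (q₁ q₂ : pullback f g ⟶ Z)

/-- `id × t : G ×_S T ⟶ G ×_S Y`. -/
noncomputable def gm {T : Scheme.{u}} (t : T ⟶ Y) : pullback f (t ≫ g) ⟶ pullback f g :=
  pullback.map f (t ≫ g) f g (𝟙 _) t (𝟙 _) (by simp) (by simp)

@[reassoc (attr := simp)]
theorem gm_fst {T : Scheme.{u}} (t : T ⟶ Y) : gm f g t ≫ pullback.fst f g = pullback.fst f (t ≫ g) := by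
  simp [gm, pullback.map, pullback.lift_fst]

@[reassoc (attr := simp)]
theorem gm_snd {T : Scheme.{u}} (t : T ⟶ Y) :
    gm f g t ≫ pullback.snd f g = pullback.snd f (t ≫ g) ≫ t := by
  simp [gm, pullback.map, pullback.lift_snd]

/-- The two morphisms agree on `G ×_S T`. -/
def Fx {T : Scheme.{u}} (t : T ⟶ Y) : Prop := gm f g t ≫ q₁ = gm f g t ≫ q₂

theorem Fx.comp {T T' : Scheme.{u}} {t : T ⟶ Y} (h : Fx f g q₁ q₂ t) (j : T' ⟶ T) :
    Fx f g q₁ q₂ (j ≫ t) := by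
  let k : pullback f ((j ≫ t) ≫ g) ⟶ pullback f (t ≫ g) :=
    pullback.map f ((j ≫ t) ≫ g) f (t ≫ g) (𝟙 _) j (𝟙 _) (by simp) (by simp)
  have e : gm f g (j ≫ t) = k ≫ gm f g t := by
    apply pullback.hom_ext <;>
      simp [k, pullback.map, pullback.lift_fst, pullback.lift_snd, pullback.lift_snd_assoc]
  unfold Fx
  rw [e, Category.assoc k, Category.assoc k, show gm f g t ≫ q₁ = gm f g t ≫ q₂ from h]

theorem Fx.of_openCover {T : Scheme.{u}} {t : T ⟶ Y} (𝒰 : T.OpenCover)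
    (h : ∀ i, Fx f g q₁ q₂ (𝒰.f i ≫ t)) : Fx f g q₁ q₂ t := by
  refine Scheme.Cover.hom_ext (Scheme.Pullback.openCoverOfRight 𝒰 f (t ≫ g)) _ _ fun (i : 𝒰.I₀) => ?_
  let k : pullback f (𝒰.f i ≫ t ≫ g) ⟶ pullback f ((𝒰.f i ≫ t) ≫ g) :=
    pullback.map _ _ _ _ (𝟙 _) (𝟙 _) (𝟙 _) (by simp) (by simp)
  have e : pullback.map f (𝒰.f i ≫ t ≫ g) f (t ≫ g) (𝟙 _) (𝒰.f i) (𝟙 _) (by simp) (by simp) ≫ gm f g t =
      k ≫ gm f g (𝒰.f i ≫ t) := by
    apply pullback.hom_ext <;>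
      simp [k, pullback.map, pullback.lift_fst, pullback.lift_snd, pullback.lift_fst_assoc, pullback.lift_snd_assoc]
  refine ((Category.assoc _ _ _).symm.trans ((congrArg (· ≫ q₁) e).trans ((Category.assoc _ _ _).trans
    ((congrArg (k ≫ ·) (h i)).trans ?_))))
  exact (Category.assoc _ _ _).symm.trans ((congrArg (· ≫ q₂) e.symm).trans (Category.assoc _ _ _))

/-- An open over a chart of `S` on which the algebra is free. -/
def Good (V : Y.Opens) : Prop :=
  ∃ U : S.affineOpens, V ≤ g ⁻¹ᵁ U.1 ∧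
    @Module.Free Γ(S, U) Γ(G, f ⁻¹ᵁ U) _ _ (f.app U).hom.toAlgebra.toModule

theorem Good.mono {f : G ⟶ S} {g : Y ⟶ S} {V W : Y.Opens} (h : Good f g V) (e : W ≤ V) : Good f g W := by
  obtain ⟨U, hU, hfree⟩ := h
  exact ⟨U, e.trans hU, hfree⟩

variable [IsAffineHom f] (sZ : Z ⟶ S) [IsSeparated sZ] (hq : q₁ ≫ sZ = q₂ ≫ sZ)

include hq in
theorem exists_ideal_of_good {V : Y.Opens} (hV : IsAffineOpen V) (hg : Good f g V) :
    ∃ J : Ideal Γ(Y, V), ∀ (C : CommRingCat.{u}) (χ : Γ(Y, V) ⟶ C),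
      Fx f g q₁ q₂ (Spec.map χ ≫ hV.fromSpec) ↔ J ≤ RingHom.ker χ.hom := by
  obtain ⟨U, hVU, hfree⟩ := hg
  have hGU : IsAffineOpen (f ⁻¹ᵁ U.1) := U.2.preimage f
  haveI : IsAffineHom (pullback.snd f g) := MorphismProperty.pullback_snd f g inferInstance
  set W : (pullback f g).Opens := pullback.snd f g ⁻¹ᵁ V with hWdef
  have hW : IsAffineOpen W := hV.preimage _
  have hWeq : W = pullback.fst f g ⁻¹ᵁ (f ⁻¹ᵁ U.1) ⊓ pullback.snd f g ⁻¹ᵁ V := by
    refine le_antisymm (le_inf ?_ le_rfl) inf_le_right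
    rw [← Scheme.Hom.comp_preimage, pullback.condition, Scheme.Hom.comp_preimage]
    exact fun p hp => hVU hp
  have hpo := (isIso_pushoutSection_iff (IsPullback.of_hasPullback f g) hVU le_rfl hWeq).1
    (isIso_pushoutSection_of_isAffineOpen _ _ _ _ U.2 hV hGU)
  rw [Scheme.Hom.app_eq_appLE] at hfree
  -- the closed locus where the two maps agree
  let L : pullback f g ⟶ pullback sZ sZ := pullback.lift q₁ q₂ hq
  let e := pullback.fst L (pullback.diagonal sZ)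
  haveI : IsClosedImmersion e := MorphismProperty.pullback_fst _ _ inferInstance
  haveI : IsAffine W.toScheme := hW
  let ek := e ∣_ W
  haveI : IsClosedImmersion ek :=
    MorphismProperty.of_isPullback (P := @IsClosedImmersion) (isPullback_morphismRestrict e W).flip inferInstance
  have eW : (⊤ : W.toScheme.Opens) ≤ W.ι ⁻¹ᵁ W := by rw [W.ι_preimage_self]
  let κ := W.ι.appLE W ⊤ eW
  haveI : IsIso κ := by
    change IsIso (W.ι.appLE W ⊤ eW)
    rw [Scheme.Opens.ι_appLE]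
    refine @Functor.map_isIso _ _ _ _ _ _ _ _ ?_
    exact ⟨(homOfLE (by rw [Scheme.Opens.ι_image_top])).op, Subsingleton.elim _ _, Subsingleton.elim _ _⟩
  obtain ⟨J, hJ⟩ := exists_coeffIdeal hpo hfree ((RingHom.ker ek.appTop.hom).comap κ.hom)
  refine ⟨J, fun C χ => ?_⟩
  set t := Spec.map χ ≫ hV.fromSpec with htdef
  have htop : (⊤ : (Spec C).Opens) ≤ t ⁻¹ᵁ V := fun p _ => hV.range_fromSpec.le ⟨_, rfl⟩
  have htapp : t.appLE V ⊤ htop = χ ≫ (Scheme.ΓSpecIso C).inv := by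
    apply Spec.map_injective
    rw [← cancel_mono hV.fromSpec, IsAffineOpen.SpecMap_appLE_fromSpec _ _ (isAffineOpen_top (Spec C)),
      IsAffineOpen.fromSpec_top, Scheme.isoSpec_Spec_inv, Spec.map_comp, Category.assoc]
  set P := pullback f (t ≫ g)
  haveI : IsAffineHom (pullback.snd f (t ≫ g)) := MorphismProperty.pullback_snd f _ inferInstance
  haveI : IsAffine P := isAffine_of_isAffineHom (pullback.snd f (t ≫ g))
  have htU : (⊤ : (Spec C).Opens) ≤ (t ≫ g) ⁻¹ᵁ U.1 := fun p hp => hVU (htop hp)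
  have hPeq : (⊤ : P.Opens) =
      pullback.fst f (t ≫ g) ⁻¹ᵁ (f ⁻¹ᵁ U.1) ⊓ pullback.snd f (t ≫ g) ⁻¹ᵁ ⊤ := by
    refine le_antisymm (le_inf ?_ (fun p _ => trivial)) le_top
    rw [← Scheme.Hom.comp_preimage, pullback.condition, Scheme.Hom.comp_preimage]
    exact fun p _ => htU (Set.mem_univ _)
  have hpoT := (isIso_pushoutSection_iff (IsPullback.of_hasPullback f (t ≫ g)) htU le_rfl hPeq).1
    (isIso_pushoutSection_of_isAffineOpen _ _ _ _ U.2 (isAffineOpen_top (Spec C)) hGU)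
  have hgmW : (⊤ : P.Opens) ≤ gm f g t ⁻¹ᵁ W := by
    rw [hWdef, ← Scheme.Hom.comp_preimage, gm_snd, Scheme.Hom.comp_preimage]
    exact fun p _ => htop (Set.mem_univ _)
  let g' : P ⟶ W.toScheme := IsOpenImmersion.lift W.ι (gm f g t) (by
    rw [Scheme.Opens.range_ι]
    rintro _ ⟨p, rfl⟩
    exact hgmW (Set.mem_univ p))
  have hg' : g' ≫ W.ι = gm f g t := IsOpenImmersion.lift_fac _ _ _
  have hΨ : (gm f g t).appLE W ⊤ hgmW = κ ≫ g'.appTop := by
    rw [show g'.appTop = g'.appLE ⊤ ⊤ le_rfl from Scheme.Hom.app_eq_appLE (f := g') (U := ⊤),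
      Scheme.Hom.appLE_comp_appLE]
    simp only [hg']
  have hloc : Fx f g q₁ q₂ t ↔ RingHom.ker ek.appTop.hom ≤ RingHom.ker g'.appTop.hom := by
    constructor
    · intro h
      have hc : gm f g t ≫ L = (gm f g t ≫ q₁) ≫ pullback.diagonal sZ := by
        apply pullback.hom_ext
        · simp [L, pullback.lift_fst]
        · simp only [L, Category.assoc, pullback.lift_snd, pullback.diagonal_snd, Category.comp_id]
          exact h.symm
      obtain ⟨l, hl, -⟩ := (isPullback_morphismRestrict e W).exists_lift g' (pullback.lift _ _ hc)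
        (by rw [hg', pullback.lift_fst])
      intro s hs
      rw [RingHom.mem_ker] at hs ⊢
      rw [← hl, Scheme.Hom.comp_appTop]
      change l.appTop (ek.appTop s) = 0
      exact (congrArg _ hs).trans (map_zero _)
    · intro h
      have hker : ek.ker ≤ g'.ker := by
        rw [Scheme.ker_of_isAffine, Scheme.ker_of_isAffine]
        exact OrderHomClass.mono (Scheme.IdealSheafData.equivOfIsAffine (X := W.toScheme)).symm h
      have hl := IsClosedImmersion.lift_fac ek g' hker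
      generalize IsClosedImmersion.lift ek g' hker = l at hl
      have he₁ : e ≫ q₁ = e ≫ q₂ := by
        have hd := congrArg (· ≫ pullback.fst sZ sZ) (pullback.condition (f := L) (g := pullback.diagonal sZ))
        have hd' := congrArg (· ≫ pullback.snd sZ sZ) (pullback.condition (f := L) (g := pullback.diagonal sZ))
        simp only [L, Category.assoc, pullback.lift_fst, pullback.lift_snd, pullback.diagonal_fst,
          pullback.diagonal_snd] at hd hd'
        exact hd.trans hd'.symm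
      have h2 : gm f g t = (l ≫ (e ⁻¹ᵁ W).ι) ≫ e :=
        hg'.symm.trans (((congrArg (· ≫ W.ι) hl.symm).trans (Category.assoc _ _ _)).trans
          ((congrArg (l ≫ ·) (morphismRestrict_ι e W)).trans (Category.assoc _ _ _).symm))
      exact (congrArg (· ≫ q₁) h2).trans ((Category.assoc _ _ _).trans ((congrArg ((l ≫ _) ≫ ·) he₁).trans
        ((Category.assoc _ _ _).symm.trans (congrArg (· ≫ q₂) h2.symm))))
  rw [hloc]
  have hkey := hJ _ _ _ hpoT (χ ≫ (Scheme.ΓSpecIso C).inv) ((gm f g t).appLE W ⊤ hgmW)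
    (by rw [Scheme.Hom.appLE_comp_appLE]; simp only [gm_fst])
    (by rw [← htapp, Scheme.Hom.appLE_comp_appLE, Scheme.Hom.appLE_comp_appLE]; simp only [gm_snd])
  have hker : RingHom.ker (χ ≫ (Scheme.ΓSpecIso C).inv).hom = RingHom.ker χ.hom := by
    rw [CommRingCat.hom_comp]
    exact RingHom.ker_comp_of_injective _ (ConcreteCategory.bijective_of_isIso (Scheme.ΓSpecIso C).inv).1
  rw [hker] at hkey
  rw [← hkey, hΨ, CommRingCat.hom_comp, ← RingHom.comap_ker,
    Ideal.comap_le_comap_iff_of_surjective _ (ConcreteCategory.bijective_of_isIso κ).2]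

/-- The candidate ideal. -/
noncomputable def fixIdeal (V : Y.Opens) (hV : IsAffineOpen V) : Ideal Γ(Y, V) :=
  ⨅ (C : CommRingCat.{u}) (χ : Γ(Y, V) ⟶ C) (_ : Fx f g q₁ q₂ (Spec.map χ ≫ hV.fromSpec)), RingHom.ker χ.hom

omit [IsAffineHom f] in
theorem mem_fixIdeal {V : Y.Opens} {hV : IsAffineOpen V} {s : Γ(Y, V)} :
    s ∈ fixIdeal f g q₁ q₂ V hV ↔
      ∀ (C : CommRingCat.{u}) (χ : Γ(Y, V) ⟶ C), Fx f g q₁ q₂ (Spec.map χ ≫ hV.fromSpec) → χ s = 0 := by
  simp only [fixIdeal, Ideal.mem_iInf, RingHom.mem_ker]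

omit [IsAffineHom f] in
theorem fixIdeal_le {V : Y.Opens} {hV : IsAffineOpen V} {C : CommRingCat.{u}} (χ : Γ(Y, V) ⟶ C)
    (h : Fx f g q₁ q₂ (Spec.map χ ≫ hV.fromSpec)) : fixIdeal f g q₁ q₂ V hV ≤ RingHom.ker χ.hom :=
  fun _ hs => RingHom.mem_ker.2 ((mem_fixIdeal f g q₁ q₂).1 hs C χ h)

include hq in
theorem fx_iff_of_good {V : Y.Opens} (hV : IsAffineOpen V) (hg : Good f g V) (C : CommRingCat.{u})
    (χ : Γ(Y, V) ⟶ C) :
    Fx f g q₁ q₂ (Spec.map χ ≫ hV.fromSpec) ↔ fixIdeal f g q₁ q₂ V hV ≤ RingHom.ker χ.hom := by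
  obtain ⟨J, hJ⟩ := exists_ideal_of_good f g q₁ q₂ sZ hq hV hg
  refine ⟨fixIdeal_le f g q₁ q₂ χ, fun h => (hJ C χ).2 (le_trans ?_ h)⟩
  exact fun s hs => (mem_fixIdeal f g q₁ q₂).2 fun C χ hχ => RingHom.mem_ker.1 ((hJ C χ).1 hχ hs)

omit [IsAffineHom f] in
theorem res_mem_fixIdeal {V W : Y.Opens} (hV : IsAffineOpen V) (hW : IsAffineOpen W) (e : W ≤ V) {s : Γ(Y, V)}
    (hs : s ∈ fixIdeal f g q₁ q₂ V hV) :
    Y.presheaf.map (homOfLE e).op s ∈ fixIdeal f g q₁ q₂ W hW := by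
  rw [mem_fixIdeal] at hs ⊢
  intro C χ hχ
  refine hs C (Y.presheaf.map (homOfLE e).op ≫ χ) ?_
  rwa [Spec.map_comp, Category.assoc, hV.map_fromSpec hW (homOfLE e).op]

include hq in
theorem map_fixIdeal_of_good {V : Y.Opens} (hV : IsAffineOpen V) (hg : Good f g V) (r : Γ(Y, V)) :
    fixIdeal f g q₁ q₂ (Y.basicOpen r) (hV.basicOpen r) ≤
      (fixIdeal f g q₁ q₂ V hV).map (Y.presheaf.map (homOfLE <| Y.basicOpen_le r).op).hom := by
  set ρ := Y.presheaf.map (homOfLE <| Y.basicOpen_le r).op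
  let mk := CommRingCat.ofHom (Ideal.Quotient.mk ((fixIdeal f g q₁ q₂ V hV).map ρ.hom))
  have h1 : Fx f g q₁ q₂ (Spec.map (ρ ≫ mk) ≫ hV.fromSpec) :=
    (fx_iff_of_good f g q₁ q₂ sZ hq hV hg _ _).2 fun s hs =>
      RingHom.mem_ker.2 (Ideal.Quotient.eq_zero_iff_mem.2 (Ideal.mem_map_of_mem _ hs))
  rw [Spec.map_comp, Category.assoc, hV.map_fromSpec (hV.basicOpen r)] at h1
  intro s hs
  exact Ideal.Quotient.eq_zero_iff_mem.1 (fixIdeal_le f g q₁ q₂ mk h1 hs)

omit [IsAffineHom f] in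
/-- Membership is local on a cover by basic opens. -/
theorem mem_fixIdeal_of_span {V : Y.Opens} (hV : IsAffineOpen V) (F : Set Γ(Y, V)) (hF : Ideal.span F = ⊤)
    {s : Γ(Y, V)} (h : ∀ x ∈ F, Y.presheaf.map (homOfLE (Y.basicOpen_le x)).op s ∈
      fixIdeal f g q₁ q₂ (Y.basicOpen x) (hV.basicOpen x)) :
    s ∈ fixIdeal f g q₁ q₂ V hV := by
  rw [mem_fixIdeal]
  intro C χ hχ
  have hann : ∀ x ∈ F, ∃ k : ℕ, χ x ^ k * χ s = 0 := by
    intro x hx
    letI : Algebra Γ(Y, V) Γ(Y, Y.basicOpen x) :=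
      (Y.presheaf.map (homOfLE (Y.basicOpen_le x)).op).hom.toAlgebra
    haveI : IsLocalization.Away x Γ(Y, Y.basicOpen x) := hV.isLocalization_basicOpen x
    have hu : IsUnit (((algebraMap C (Localization.Away (χ x))).comp χ.hom) x) :=
      IsLocalization.Away.algebraMap_isUnit (χ x)
    let χx : Γ(Y, Y.basicOpen x) ⟶ CommRingCat.of (Localization.Away (χ x)) :=
      CommRingCat.ofHom (IsLocalization.Away.lift (S := Γ(Y, Y.basicOpen x)) x hu)
    have hcomm : Y.presheaf.map (homOfLE (Y.basicOpen_le x)).op ≫ χx =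
        χ ≫ CommRingCat.ofHom (algebraMap C (Localization.Away (χ x))) :=
      CommRingCat.hom_ext (IsLocalization.Away.lift_comp x hu)
    have hfx : Fx f g q₁ q₂ (Spec.map χx ≫ (hV.basicOpen x).fromSpec) := by
      rw [← hV.map_fromSpec (hV.basicOpen x) (homOfLE (Y.basicOpen_le x)).op, ← Category.assoc,
        ← Spec.map_comp, hcomm, Spec.map_comp, Category.assoc]
      exact hχ.comp _ _ _ _ _
    have h1 : algebraMap C (Localization.Away (χ x)) (χ s) = 0 :=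
      (congr($(hcomm) s)).symm.trans (RingHom.mem_ker.1 (fixIdeal_le f g q₁ q₂ χx hfx (h x hx)))
    obtain ⟨⟨_, k, rfl⟩, hk⟩ :=
      (IsLocalization.map_eq_zero_iff (Submonoid.powers (χ x)) (Localization.Away (χ x)) (χ s)).1 h1
    exact ⟨k, hk⟩
  let ann : Ideal C := (Submodule.span C {χ s}).annihilator
  have hrad : (Ideal.span F).map χ.hom ≤ ann.radical := by
    rw [Ideal.map_span, Ideal.span_le]
    rintro _ ⟨x, hx, rfl⟩
    obtain ⟨k, hk⟩ := hann x hx
    exact ⟨k, Submodule.mem_annihilator_span_singleton _ _ |>.2 (by simpa using hk)⟩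
  rw [hF, Ideal.map_top] at hrad
  obtain ⟨k, hk⟩ := hrad (Submodule.mem_top (x := (1 : C)))
  rw [one_pow] at hk
  simpa using (Submodule.mem_annihilator_span_singleton _ _).1 hk

include hq in
/-- On a good piece, a numerator of an element of the ideal of a basic open is, up to a power, in the ideal. -/
theorem exists_pow_mem {V : Y.Opens} (hV : IsAffineOpen V) (hg : Good f g V) (r b : Γ(Y, V))
    (hb : Y.presheaf.map (homOfLE (Y.basicOpen_le r)).op b ∈ fixIdeal f g q₁ q₂ (Y.basicOpen r) (hV.basicOpen r)) :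
    ∃ m : ℕ, r ^ m * b ∈ fixIdeal f g q₁ q₂ V hV := by
  have h := map_fixIdeal_of_good f g q₁ q₂ sZ hq hV hg r hb
  letI : Algebra Γ(Y, V) Γ(Y, Y.basicOpen r) := (Y.presheaf.map (homOfLE (Y.basicOpen_le r)).op).hom.toAlgebra
  haveI : IsLocalization.Away r Γ(Y, Y.basicOpen r) := hV.isLocalization_basicOpen r
  obtain ⟨_, ⟨m, rfl⟩, hm⟩ :=
    (IsLocalization.algebraMap_mem_map_algebraMap_iff (Submonoid.powers r) Γ(Y, Y.basicOpen r) _ _).1 h
  exact ⟨m, hm⟩

include hq in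
theorem map_fixIdeal (hgood : ∀ y : Y, ∃ V : Y.Opens, y ∈ V ∧ Good f g V) {V : Y.Opens} (hV : IsAffineOpen V)
    (r : Γ(Y, V)) :
    (fixIdeal f g q₁ q₂ V hV).map (Y.presheaf.map (homOfLE <| Y.basicOpen_le r).op).hom =
      fixIdeal f g q₁ q₂ (Y.basicOpen r) (hV.basicOpen r) := by
  classical
  refine le_antisymm (Ideal.map_le_iff_le_comap.2 fun s hs => res_mem_fixIdeal f g q₁ q₂ hV _ _ hs) ?_
  intro a ha
  letI : Algebra Γ(Y, V) Γ(Y, Y.basicOpen r) := (Y.presheaf.map (homOfLE (Y.basicOpen_le r)).op).hom.toAlgebra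
  haveI : IsLocalization.Away r Γ(Y, Y.basicOpen r) := hV.isLocalization_basicOpen r
  obtain ⟨n, b, hb⟩ := IsLocalization.Away.surj r a
  have hb' : Y.presheaf.map (homOfLE (Y.basicOpen_le r)).op b ∈
      fixIdeal f g q₁ q₂ (Y.basicOpen r) (hV.basicOpen r) := by
    change algebraMap Γ(Y, V) Γ(Y, Y.basicOpen r) b ∈ _
    rw [← hb]
    exact Ideal.mul_mem_right _ _ ha
  have hspan : Ideal.span {x : Γ(Y, V) | Good f g (Y.basicOpen x)} = ⊤ := by
    rw [← hV.iSup_basicOpen_eq_self_iff]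
    refine le_antisymm (iSup_le fun x => Y.basicOpen_le _) fun y hy => ?_
    obtain ⟨V', hy', hV'⟩ := hgood y
    obtain ⟨x, hx, hyx⟩ := hV.exists_basicOpen_le ⟨y, hy'⟩ hy
    exact TopologicalSpace.Opens.mem_iSup.2 ⟨⟨x, hV'.mono hx⟩, hyx⟩
  obtain ⟨F, hF, hFspan⟩ := Submodule.mem_span_finite_of_mem_span
    (show (1 : Γ(Y, V)) ∈ Ideal.span _ from hspan ▸ Submodule.mem_top)
  have hFtop : Ideal.span (F : Set Γ(Y, V)) = ⊤ := (Ideal.eq_top_iff_one _).2 hFspan
  have hloc : ∀ x ∈ F, ∃ m : ℕ, Y.presheaf.map (homOfLE (Y.basicOpen_le x)).op (r ^ m * b) ∈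
      fixIdeal f g q₁ q₂ (Y.basicOpen x) (hV.basicOpen x) := by
    intro x hx
    have hle : Y.basicOpen (Y.presheaf.map (homOfLE (Y.basicOpen_le x)).op r) ≤ Y.basicOpen r := by
      rw [Scheme.basicOpen_res]; exact inf_le_right
    obtain ⟨m, hm⟩ := exists_pow_mem f g q₁ q₂ sZ hq (hV.basicOpen x) (hF hx)
      (Y.presheaf.map (homOfLE (Y.basicOpen_le x)).op r) (Y.presheaf.map (homOfLE (Y.basicOpen_le x)).op b)
      (by
        have h1 := res_mem_fixIdeal f g q₁ q₂ (hV.basicOpen r) ((hV.basicOpen x).basicOpen _) hle hb'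
        rw [← CommRingCat.comp_apply, ← Functor.map_comp] at h1
        rw [← CommRingCat.comp_apply, ← Functor.map_comp]
        exact h1)
    exact ⟨m, by rw [map_mul, map_pow]; exact hm⟩
  choose! m hm using hloc
  have hfin : r ^ F.sup m * b ∈ fixIdeal f g q₁ q₂ V hV :=
    mem_fixIdeal_of_span f g q₁ q₂ hV F hFtop fun x hx => by
      rw [← Nat.sub_add_cancel (show m x ≤ F.sup m from Finset.le_sup hx), pow_add, mul_assoc, map_mul]
      exact Ideal.mul_mem_left _ _ (hm x hx)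
  have hmem := Ideal.mem_map_of_mem (Y.presheaf.map (homOfLE (Y.basicOpen_le r)).op).hom hfin
  change algebraMap Γ(Y, V) Γ(Y, Y.basicOpen r) (r ^ F.sup m * b) ∈ _ at hmem
  rw [map_mul, ← hb, map_pow, mul_left_comm, ← pow_add] at hmem
  exact (Ideal.mul_unit_mem_iff_mem _ ((IsLocalization.Away.algebraMap_isUnit r).pow _)).1 hmem

include hq in
/-- The locus is represented by a closed subscheme. -/
theorem exists_ideal_fx_iff (hgood : ∀ y : Y, ∃ V : Y.Opens, y ∈ V ∧ Good f g V) :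
    ∃ I : Y.IdealSheafData, ∀ {T : Scheme.{u}} (t : T ⟶ Y), Fx f g q₁ q₂ t ↔ I ≤ t.ker := by
  refine ⟨{ ideal := fun V => fixIdeal f g q₁ q₂ V.1 V.2
            map_ideal_basicOpen := fun V r => map_fixIdeal f g q₁ q₂ sZ hq hgood V.2 r },
    fun {T} t => ⟨fun h => ?_, fun h => ?_⟩⟩
  · refine Scheme.IdealSheafData.le_ofIdeals_iff.2 fun V s hs => ?_
    rw [RingHom.mem_ker]
    refine T.IsSheaf.section_ext fun x hx => ?_
    obtain ⟨_, ⟨W, hW, rfl⟩, hxW, hWV : W ≤ t ⁻¹ᵁ V.1⟩ :=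
      T.isBasis_affineOpens.exists_subset_of_mem_open hx (t ⁻¹ᵁ V.1).isOpen
    refine ⟨W, hWV, hxW, ?_⟩
    have h1 : Fx f g q₁ q₂ (Spec.map (t.appLE V.1 W hWV) ≫ V.2.fromSpec) := by
      rw [IsAffineOpen.SpecMap_appLE_fromSpec t V.2 hW]
      exact h.comp _ _ _ _ _
    rw [map_zero]
    exact RingHom.mem_ker.1 (fixIdeal_le f g q₁ q₂ _ h1 hs)
  · have hloc : ∀ x : T, ∃ W : T.Opens, x ∈ W ∧ IsAffineOpen W ∧
        ∃ V : Y.affineOpens, W ≤ t ⁻¹ᵁ V.1 ∧ Good f g V.1 := by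
      intro x
      obtain ⟨V', hxV', hV'⟩ := hgood (t x)
      obtain ⟨_, ⟨V, hV, rfl⟩, hxV, hVV'⟩ :=
        Y.isBasis_affineOpens.exists_subset_of_mem_open hxV' V'.isOpen
      obtain ⟨_, ⟨W, hW, rfl⟩, hxW, hWV⟩ :=
        T.isBasis_affineOpens.exists_subset_of_mem_open (show x ∈ t ⁻¹ᵁ V from hxV) (t ⁻¹ᵁ V).isOpen
      exact ⟨W, hxW, hW, ⟨V, hV⟩, hWV, hV'.mono hVV'⟩
    choose W hxW hW V hWV hVg using hloc
    refine Fx.of_openCover f g q₁ q₂ (T.openCoverOfIsOpenCover W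
      (TopologicalSpace.IsOpenCover.mk (eq_top_iff.2 fun x _ => TopologicalSpace.Opens.mem_iSup.2 ⟨x, hxW x⟩)))
      fun x => ?_
    change Fx f g q₁ q₂ ((W x).ι ≫ t)
    rw [← (hW x).isoSpec_hom_fromSpec, Category.assoc, ← IsAffineOpen.SpecMap_appLE_fromSpec t (V x).2 (hW x) (hWV x)]
    refine Fx.comp _ _ _ _ ((fx_iff_of_good f g q₁ q₂ sZ hq (V x).2 (hVg x) _ _).2 fun s hs => ?_) _
    have h1 : t.app (V x).1 s = 0 := RingHom.mem_ker.1 (t.ideal_ker_le _ (h (V x) hs))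
    rw [RingHom.mem_ker]
    change (t.app (V x).1 ≫ _) s = 0
    exact (congrArg _ h1).trans (map_zero (T.presheaf.map (homOfLE (hWV x)).op).hom)

end GrothLib.FixClosed
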