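import Groth.Agent.Lib.FixClosed.Basic
import Groth.Agent.S4599
import Mathlib.AlgebraicGeometry.Morphisms.Finite
import Mathlib.RingTheory.RingHom.FinitePresentation

/-!
# The locus where two maps agree on a finite free family is cut out by finitely many equations
-/

set_option autoImplicit false

universe u

open CategoryTheory CategoryTheory.Limits AlgebraicGeometry Opposite

namespace GrothLib.FixClosed

theorem fg_comap_of_bijective {A B : Type u} [CommRing A] [CommRing B] (κ : A →+* B)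
    (hκ : Function.Bijective κ) {I : Ideal B} (hI : I.FG) : (I.comap κ).FG := by
  let e := RingEquiv.ofBijective κ hκ
  have : I.comap κ = I.map (e.symm : B →+* A) := (Ideal.map_symm (I := I) e).symm
  rw [this]
  exact hI.map _

theorem fg_coeff {A P : Type u} [CommRing A] [CommRing P] [Algebra A P] {κ : Type u} [Finite κ]
    (c : Module.Basis κ A P) {I : Ideal P} (hI : I.FG) :
    (Ideal.span {a : A | ∃ x ∈ I, ∃ i, c.repr x i = a}).FG := by
  classical
  cases nonempty_fintype κ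
  obtain ⟨s, rfl⟩ := hI
  refine ⟨(Finset.univ ×ˢ s ×ˢ Finset.univ).image fun t : κ × P × κ => c.repr (c t.1 * t.2.1) t.2.2, ?_⟩
  refine le_antisymm (Submodule.span_le.2 ?_) (Submodule.span_le.2 ?_)
  · intro a ha
    obtain ⟨⟨j, x, i⟩, ht, rfl⟩ := Finset.mem_image.1 ha
    exact Submodule.subset_span ⟨c j * x, Ideal.mul_mem_left _ _
      (Submodule.subset_span (by simpa using ht)), i, rfl⟩
  · rintro a ⟨x, hx, i, rfl⟩
    obtain ⟨w, -, rfl⟩ := Submodule.mem_span_finset.1 hx
    simp only [map_sum, Finsupp.coe_finsetSum, Finset.sum_apply, SetLike.mem_coe]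
    refine Submodule.sum_mem _ fun y hy => ?_
    rw [smul_eq_mul, ← c.sum_repr (w y), Finset.sum_mul]
    simp only [map_sum, Finsupp.coe_finsetSum, Finset.sum_apply, smul_mul_assoc, map_smul, Finsupp.smul_apply]
    refine Submodule.sum_mem _ fun j _ => Submodule.smul_mem _ _ (Submodule.subset_span ?_)
    exact Finset.mem_image.2 ⟨⟨j, y, i⟩, by simp [hy], rfl⟩

/-- The ideal of coefficients of a finitely generated ideal of a finite free algebra is finitely generated. -/
theorem exists_coeffIdeal_fg {R B A P : CommRingCat.{u}} {φ : R ⟶ B} {α : R ⟶ A} {β : B ⟶ P}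
    {γ : A ⟶ P} (h : IsPushout φ α β γ) (hfree : letI := φ.hom.toAlgebra; Module.Free R B)
    (hfin : letI := φ.hom.toAlgebra; Module.Finite R B) (I : Ideal P) (hI : I.FG) :
    ∃ J : Ideal A, J.FG ∧ ∀ {C Q : CommRingCat.{u}} (α' : R ⟶ C) (β' : B ⟶ Q) (γ' : C ⟶ Q)
      (_ : IsPushout φ α' β' γ') (χ : A ⟶ C) (Ψ : P ⟶ Q), β ≫ Ψ = β' → γ ≫ Ψ = χ ≫ γ' →
      (I ≤ RingHom.ker Ψ.hom ↔ J ≤ RingHom.ker χ.hom) := by
  letI := φ.hom.toAlgebra
  letI := γ.hom.toAlgebra
  haveI := hfree
  let b := Module.Free.chooseBasis R B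
  obtain ⟨c, hc⟩ := exists_basis_of_isPushout h b
  haveI := hfin
  refine ⟨Ideal.span {a | ∃ x ∈ I, ∃ i, c.repr x i = a}, fg_coeff c hI, fun {C Q} α' β' γ' h' χ Ψ hβ hγ => ?_⟩
  letI := γ'.hom.toAlgebra
  obtain ⟨c', hc'⟩ := exists_basis_of_isPushout h' b
  have hΨ : ∀ x : P, Ψ x = Finsupp.linearCombination C c'
      (Finsupp.mapRange χ.hom (map_zero _) (c.repr x)) := by
    intro x
    conv_lhs => rw [← c.linearCombination_repr x]
    rw [Finsupp.linearCombination_apply, Finsupp.linearCombination_apply, map_finsuppSum,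
      Finsupp.sum_mapRange_index (h := fun i a => a • c' i) (fun i => zero_smul C (c' i))]
    refine Finsupp.sum_congr fun i _ => ?_
    rw [Algebra.smul_def, Algebra.smul_def, map_mul, hc, hc']
    have e1 : Ψ (β (b i)) = β' (b i) := congr($(hβ) (b i))
    have e2 : Ψ (γ (c.repr x i)) = γ' (χ (c.repr x i)) := congr($(hγ) (c.repr x i))
    exact congrArg₂ (· * ·) e2 e1
  constructor
  · intro hI
    rw [Ideal.span_le]
    rintro _ ⟨x, hx, i, rfl⟩
    have h0 : Finsupp.linearCombination C c' (Finsupp.mapRange χ.hom (map_zero _) (c.repr x)) = 0 := by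
      rw [← hΨ]
      exact hI hx
    have := linearIndependent_iff.1 c'.linearIndependent _ h0
    simpa using congrArg (fun f => f i) this
  · intro hJ x hx
    rw [RingHom.mem_ker]
    refine (hΨ x).trans ?_
    have h0 : Finsupp.mapRange χ.hom (map_zero _) (c.repr x) = 0 :=
      Finsupp.ext fun i => hJ (Ideal.subset_span ⟨x, hx, i, rfl⟩)
    rw [h0, map_zero]


theorem eq_zero_of_mem_ker {Y : Scheme.{u}} {U : Y.Opens} {C : CommRingCat.{u}} (χ : Γ(Y, U) ⟶ C)
    (hU : IsAffineOpen U) {s : Γ(Y, U)} (hs : s ∈ (Spec.map χ ≫ hU.fromSpec).ker.ideal ⟨U, hU⟩) : χ s = 0 := by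
  set t := Spec.map χ ≫ hU.fromSpec with ht
  have h0 : t.app U s = 0 := RingHom.mem_ker.1 (t.ideal_ker_le ⟨U, hU⟩ hs)
  have htop : (⊤ : (Spec C).Opens) ≤ t ⁻¹ᵁ U := fun p _ => hU.range_fromSpec.le ⟨_, rfl⟩
  have htapp : t.appLE U ⊤ htop = χ ≫ (Scheme.ΓSpecIso C).inv := by
    apply Spec.map_injective
    rw [← cancel_mono hU.fromSpec, IsAffineOpen.SpecMap_appLE_fromSpec _ _ (isAffineOpen_top (Spec C)),
      IsAffineOpen.fromSpec_top, Scheme.isoSpec_Spec_inv, Spec.map_comp, Category.assoc]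
  have h1 : (t.appLE U ⊤ htop).hom s = 0 := by
    rw [Scheme.Hom.appLE]
    change ((Spec C).presheaf.map (homOfLE htop).op).hom (t.app U s) = 0
    rw [h0, map_zero]
  rw [htapp] at h1
  exact (ConcreteCategory.bijective_of_isIso (Scheme.ΓSpecIso C).inv).1 (h1.trans (map_zero _).symm)

theorem le_ker_quotient {Y : Scheme.{u}} (I : Y.IdealSheafData) (U : Y.affineOpens) :
    I ≤ (Spec.map (CommRingCat.ofHom (Ideal.Quotient.mk (I.ideal U))) ≫ U.2.fromSpec).ker := by
  rw [← I.glueDataObjι_ι U, ← I.subschemeCover_map_subschemeι U]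
  exact I.ker_subschemeι.symm.le.trans (Scheme.Hom.le_ker_comp _ _)

variable {S G Y Z : Scheme.{u}} (f : G ⟶ S) (g : Y ⟶ S) (q₁ q₂ : pullback f g ⟶ Z)
variable [IsAffineHom f] (sZ : Z ⟶ S) [IsSeparated sZ] (hq : q₁ ≫ sZ = q₂ ≫ sZ)

include hq in
theorem exists_fgIdeal_of_good [IsFinite f] [LocallyOfFiniteType sZ] {V : Y.Opens} (hV : IsAffineOpen V)
    (hg : Good f g V) :
    ∃ J : Ideal Γ(Y, V), J.FG ∧ ∀ (C : CommRingCat.{u}) (χ : Γ(Y, V) ⟶ C),
      Fx f g q₁ q₂ (Spec.map χ ≫ hV.fromSpec) ↔ J ≤ RingHom.ker χ.hom := by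
  obtain ⟨U, hVU, hfree⟩ := hg
  have hGU : IsAffineOpen (f ⁻¹ᵁ U.1) := U.2.preimage f
  haveI : IsAffineHom (pullback.snd f g) := MorphismProperty.pullback_snd f g inferInstance
  set W : (pullback f g).Opens := pullback.snd f g ⁻¹ᵁ V with hWdef
  have hW : IsAffineOpen W := hV.preimage _
  have hWeq : W = pullback.fst f g ⁻¹ᵁ (f ⁻¹ᵁ U.1) ⊓ pullback.snd f g ⁻¹ᵁ V := by
    refine le_antisymm (le_inf ?_ le_rfl) inf_le_right
    rw [← Scheme.Hom.comp_preimage, pullback.condition, Scheme.Hom.comp_preimage]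
    exact fun p hp => hVU hp
  have hpo := (isIso_pushoutSection_iff (IsPullback.of_hasPullback f g) hVU le_rfl hWeq).1
    (isIso_pushoutSection_of_isAffineOpen _ _ _ _ U.2 hV hGU)
  rw [Scheme.Hom.app_eq_appLE] at hfree
  -- the closed locus where the two maps agree
  let L : pullback f g ⟶ pullback sZ sZ := pullback.lift q₁ q₂ hq
  let e := pullback.fst L (pullback.diagonal sZ)
  haveI : IsClosedImmersion e := MorphismProperty.pullback_fst _ _ inferInstance
  haveI : IsAffine W.toScheme := hW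
  let ek := e ∣_ W
  haveI : IsClosedImmersion ek :=
    MorphismProperty.of_isPullback (P := @IsClosedImmersion) (isPullback_morphismRestrict e W).flip inferInstance
  have eW : (⊤ : W.toScheme.Opens) ≤ W.ι ⁻¹ᵁ W := by rw [W.ι_preimage_self]
  let κ := W.ι.appLE W ⊤ eW
  haveI : IsIso κ := by
    change IsIso (W.ι.appLE W ⊤ eW)
    rw [Scheme.Opens.ι_appLE]
    refine @Functor.map_isIso _ _ _ _ _ _ _ _ ?_
    exact ⟨(homOfLE (by rw [Scheme.Opens.ι_image_top])).op, Subsingleton.elim _ _, Subsingleton.elim _ _⟩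
  haveI : LocallyOfFinitePresentation (pullback.diagonal sZ) := Groth.Agent.S4599.result sZ
  haveI : LocallyOfFinitePresentation e := MorphismProperty.pullback_fst _ _ inferInstance
  haveI : LocallyOfFinitePresentation ek :=
    MorphismProperty.of_isPullback (P := @LocallyOfFinitePresentation) (isPullback_morphismRestrict e W).flip
      inferInstance
  haveI : IsAffine (e ⁻¹ᵁ W).toScheme := hW.preimage e
  have hIfg : ((RingHom.ker ek.appTop.hom).comap κ.hom).FG := by
    have h1 : (RingHom.ker ek.appTop.hom).FG := by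
      letI := ek.appTop.hom.toAlgebra
      haveI : Algebra.FinitePresentation Γ(W.toScheme, ⊤) Γ((e ⁻¹ᵁ W).toScheme, ⊤) :=
        ek.finitePresentation_appTop
      exact Algebra.FinitePresentation.ker_fG_of_surjective (Algebra.ofId _ _)
        (IsClosedImmersion.isAffine_surjective_of_isAffine ek).2
    exact fg_comap_of_bijective κ.hom (ConcreteCategory.bijective_of_isIso κ) h1
  have hfin : letI := (f.appLE U.1 (f ⁻¹ᵁ U.1) le_rfl).hom.toAlgebra
      Module.Finite Γ(S, U.1) Γ(G, f ⁻¹ᵁ U.1) := by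
    rw [← Scheme.Hom.app_eq_appLE]
    exact f.finite_app U.1 U.2
  obtain ⟨J, hJfg, hJ⟩ := exists_coeffIdeal_fg hpo hfree hfin _ hIfg
  refine ⟨J, hJfg, fun C χ => ?_⟩
  set t := Spec.map χ ≫ hV.fromSpec with htdef
  have htop : (⊤ : (Spec C).Opens) ≤ t ⁻¹ᵁ V := fun p _ => hV.range_fromSpec.le ⟨_, rfl⟩
  have htapp : t.appLE V ⊤ htop = χ ≫ (Scheme.ΓSpecIso C).inv := by
    apply Spec.map_injective
    rw [← cancel_mono hV.fromSpec, IsAffineOpen.SpecMap_appLE_fromSpec _ _ (isAffineOpen_top (Spec C)),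
      IsAffineOpen.fromSpec_top, Scheme.isoSpec_Spec_inv, Spec.map_comp, Category.assoc]
  set P := pullback f (t ≫ g)
  haveI : IsAffineHom (pullback.snd f (t ≫ g)) := MorphismProperty.pullback_snd f _ inferInstance
  haveI : IsAffine P := isAffine_of_isAffineHom (pullback.snd f (t ≫ g))
  have htU : (⊤ : (Spec C).Opens) ≤ (t ≫ g) ⁻¹ᵁ U.1 := fun p hp => hVU (htop hp)
  have hPeq : (⊤ : P.Opens) =
      pullback.fst f (t ≫ g) ⁻¹ᵁ (f ⁻¹ᵁ U.1) ⊓ pullback.snd f (t ≫ g) ⁻¹ᵁ ⊤ := by
    refine le_antisymm (le_inf ?_ (fun p _ => trivial)) le_top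
    rw [← Scheme.Hom.comp_preimage, pullback.condition, Scheme.Hom.comp_preimage]
    exact fun p _ => htU (Set.mem_univ _)
  have hpoT := (isIso_pushoutSection_iff (IsPullback.of_hasPullback f (t ≫ g)) htU le_rfl hPeq).1
    (isIso_pushoutSection_of_isAffineOpen _ _ _ _ U.2 (isAffineOpen_top (Spec C)) hGU)
  have hgmW : (⊤ : P.Opens) ≤ gm f g t ⁻¹ᵁ W := by
    rw [hWdef, ← Scheme.Hom.comp_preimage, gm_snd, Scheme.Hom.comp_preimage]
    exact fun p _ => htop (Set.mem_univ _)
  let g' : P ⟶ W.toScheme := IsOpenImmersion.lift W.ι (gm f g t) (by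
    rw [Scheme.Opens.range_ι]
    rintro _ ⟨p, rfl⟩
    exact hgmW (Set.mem_univ p))
  have hg' : g' ≫ W.ι = gm f g t := IsOpenImmersion.lift_fac _ _ _
  have hΨ : (gm f g t).appLE W ⊤ hgmW = κ ≫ g'.appTop := by
    rw [show g'.appTop = g'.appLE ⊤ ⊤ le_rfl from Scheme.Hom.app_eq_appLE (f := g') (U := ⊤),
      Scheme.Hom.appLE_comp_appLE]
    simp only [hg']
  have hloc : Fx f g q₁ q₂ t ↔ RingHom.ker ek.appTop.hom ≤ RingHom.ker g'.appTop.hom := by
    constructor
    · intro h
      have hc : gm f g t ≫ L = (gm f g t ≫ q₁) ≫ pullback.diagonal sZ := by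
        apply pullback.hom_ext
        · simp [L, pullback.lift_fst]
        · simp only [L, Category.assoc, pullback.lift_snd, pullback.diagonal_snd, Category.comp_id]
          exact h.symm
      obtain ⟨l, hl, -⟩ := (isPullback_morphismRestrict e W).exists_lift g' (pullback.lift _ _ hc)
        (by rw [hg', pullback.lift_fst])
      intro s hs
      rw [RingHom.mem_ker] at hs ⊢
      rw [← hl, Scheme.Hom.comp_appTop]
      change l.appTop (ek.appTop s) = 0
      exact (congrArg _ hs).trans (map_zero _)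
    · intro h
      have hker : ek.ker ≤ g'.ker := by
        rw [Scheme.ker_of_isAffine, Scheme.ker_of_isAffine]
        exact OrderHomClass.mono (Scheme.IdealSheafData.equivOfIsAffine (X := W.toScheme)).symm h
      have hl := IsClosedImmersion.lift_fac ek g' hker
      generalize IsClosedImmersion.lift ek g' hker = l at hl
      have he₁ : e ≫ q₁ = e ≫ q₂ := by
        have hd := congrArg (· ≫ pullback.fst sZ sZ) (pullback.condition (f := L) (g := pullback.diagonal sZ))
        have hd' := congrArg (· ≫ pullback.snd sZ sZ) (pullback.condition (f := L) (g := pullback.diagonal sZ))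
        simp only [L, Category.assoc, pullback.lift_fst, pullback.lift_snd, pullback.diagonal_fst,
          pullback.diagonal_snd] at hd hd'
        exact hd.trans hd'.symm
      have h2 : gm f g t = (l ≫ (e ⁻¹ᵁ W).ι) ≫ e :=
        hg'.symm.trans (((congrArg (· ≫ W.ι) hl.symm).trans (Category.assoc _ _ _)).trans
          ((congrArg (l ≫ ·) (morphismRestrict_ι e W)).trans (Category.assoc _ _ _).symm))
      exact (congrArg (· ≫ q₁) h2).trans ((Category.assoc _ _ _).trans ((congrArg ((l ≫ _) ≫ ·) he₁).trans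
        ((Category.assoc _ _ _).symm.trans (congrArg (· ≫ q₂) h2.symm))))
  rw [hloc]
  have hkey := hJ _ _ _ hpoT (χ ≫ (Scheme.ΓSpecIso C).inv) ((gm f g t).appLE W ⊤ hgmW)
    (by rw [Scheme.Hom.appLE_comp_appLE]; simp only [gm_fst])
    (by rw [← htapp, Scheme.Hom.appLE_comp_appLE, Scheme.Hom.appLE_comp_appLE]; simp only [gm_snd])
  have hker : RingHom.ker (χ ≫ (Scheme.ΓSpecIso C).inv).hom = RingHom.ker χ.hom := by
    rw [CommRingCat.hom_comp]
    exact RingHom.ker_comp_of_injective _ (ConcreteCategory.bijective_of_isIso (Scheme.ΓSpecIso C).inv).1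
  rw [hker] at hkey
  rw [← hkey, hΨ, CommRingCat.hom_comp, ← RingHom.comap_ker,
    Ideal.comap_le_comap_iff_of_surjective _ (ConcreteCategory.bijective_of_isIso κ).2]

include hq in
theorem fg_fixIdeal [IsFinite f] [LocallyOfFiniteType sZ] {V : Y.Opens} (hV : IsAffineOpen V)
    (hg : Good f g V) : (fixIdeal f g q₁ q₂ V hV).FG := by
  obtain ⟨J, hfg, hJ⟩ := exists_fgIdeal_of_good f g q₁ q₂ sZ hq hV hg
  suffices h : fixIdeal f g q₁ q₂ V hV = J by rw [h]; exact hfg
  refine le_antisymm ?_ fun s hs => (mem_fixIdeal f g q₁ q₂).2 fun C χ hχ => RingHom.mem_ker.1 ((hJ C χ).1 hχ hs)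
  have h1 := fixIdeal_le f g q₁ q₂ (CommRingCat.ofHom (Ideal.Quotient.mk J)) ((hJ _ _).2 (by simp [Ideal.mk_ker]))
  simpa [Ideal.mk_ker] using h1

include hq in
/-- The locus is represented by a closed subscheme of finite presentation. -/
theorem exists_lfp_fx_iff [IsFinite f] [LocallyOfFiniteType sZ] (hgood : ∀ y : Y, ∃ V : Y.Opens, y ∈ V ∧ Good f g V) :
    ∃ I : Y.IdealSheafData, LocallyOfFinitePresentation I.subschemeι ∧
      ∀ {T : Scheme.{u}} (t : T ⟶ Y), Fx f g q₁ q₂ t ↔ I ≤ t.ker := by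
  obtain ⟨I, hI⟩ := exists_ideal_fx_iff f g q₁ q₂ sZ hq hgood
  refine ⟨I, ?_, hI⟩
  rw [HasRingHomProperty.iff_exists_appLE (P := @LocallyOfFinitePresentation)
    (RingHom.finitePresentation_stableUnderComposition.stableUnderCompositionWithLocalizationAway
      RingHom.finitePresentation_holdsForLocalizationAway).1]
  intro d
  obtain ⟨V', hd', hV'⟩ := hgood (I.subschemeι d)
  obtain ⟨_, ⟨U, hU, rfl⟩, hd, hUV⟩ :=
    Y.isBasis_affineOpens.exists_subset_of_mem_open hd' V'.isOpen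
  refine ⟨⟨U, hU⟩, ⟨I.subschemeι ⁻¹ᵁ U, hU.preimage I.subschemeι⟩, hd, le_rfl, ?_⟩
  rw [← Scheme.Hom.app_eq_appLE]
  refine RingHom.FinitePresentation.of_surjective _ (I.subschemeι_app_surjective ⟨U, hU⟩) ?_
  rw [Scheme.IdealSheafData.ker_subschemeι_app I ⟨U, hU⟩]
  suffices h : I.ideal ⟨U, hU⟩ = fixIdeal f g q₁ q₂ U hU by
    rw [h]; exact fg_fixIdeal f g q₁ q₂ sZ hq hU (hV'.mono hUV)
  refine le_antisymm (fun s hs => (mem_fixIdeal f g q₁ q₂).2 fun C χ hχ => ?_) ?_
  · have h1 := (hI _).1 hχ ⟨U, hU⟩ hs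
    exact eq_zero_of_mem_ker χ hU h1
  · have h1 : Fx f g q₁ q₂ (Spec.map (CommRingCat.ofHom (Ideal.Quotient.mk (I.ideal ⟨U, hU⟩))) ≫ hU.fromSpec) :=
      (hI _).2 (le_ker_quotient I ⟨U, hU⟩)
    simpa [Ideal.mk_ker] using fixIdeal_le f g q₁ q₂ _ h1

end GrothLib.FixClosed
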